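import Groth.Agent.Lib.LocAcyc.Factor
import Groth.Agent.Lib.ConnOpen6.EtaleCover
import Groth.Agent.Lib.BCQVcomp.EtaleKey
import Groth.Agent.Lib.BCDVcomp.EtaleD
import Groth.Agent.Lib.ExtZero.Open
import Groth.Agent.Lib.Constructible.ExtZero
import Groth.Agent.Lib.Unibranch.Unramified
import Groth.Agent.Lib.EtSite.PushUI
import Groth.Agent.Lib.EtDer.HpullComp

/-!
# Pullback along flat morphisms with geometrically reduced fibres commutes with products
-/

set_option autoImplicit false
set_option linter.all false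

universe u

open CategoryTheory CategoryTheory.Limits AlgebraicGeometry Opposite
open GrothLib.EtSite GrothLib.EtSec

set_option backward.isDefEq.respectTransparency.types false

noncomputable section

namespace GrothLib.GRedProd18

variable {X S : Scheme.{u}}

theorem geometricallyReduced_etale_comp {U : Scheme.{u}} (a : U ⟶ X) [Etale a] (f : X ⟶ S)
    [GeometricallyReduced f] : GeometricallyReduced (a ≫ f) := by
  refine ⟨fun K _ t U' i q h => ?_⟩
  have hO : IsPullback (pullback.fst a (pullback.fst f t))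
      (pullback.snd a (pullback.fst f t) ≫ pullback.snd f t) (a ≫ f) t :=
    (IsPullback.of_hasPullback a (pullback.fst f t)).paste_vert (IsPullback.of_hasPullback f t)
  haveI : IsReduced (pullback f t) :=
    GeometricallyReduced.geometrically_isReduced (f := f) t _ _ (IsPullback.of_hasPullback f t)
  haveI : Etale (pullback.snd a (pullback.fst f t)) := MorphismProperty.pullback_snd _ _ inferInstance
  exact GrothLib.Unibranch.isReduced_of_etale
    ((h.isoIsPullback _ _ hO).hom ≫ pullback.snd a (pullback.fst f t))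

theorem hasFactorizations (f : X ⟶ S) [Flat f] [LocallyOfFinitePresentation f] [GeometricallyReduced f] :
    GrothLib.LocAcyc.HasFactorizations f := by
  intro U
  let uh : U.left ⟶ X := U.hom
  haveI : Etale uh := U.prop
  haveI : GeometricallyReduced (uh ≫ f) := geometricallyReduced_etale_comp uh f
  choose X' S' a b c ha hy hc hab _ _ hqc _ hgc _ using
    fun y : U.left => GrothLib.ConnOpen6.exists_cover (uh ≫ f) y
  haveI := ha
  haveI : ∀ y, Etale (a y ≫ uh) := fun y => inferInstance
  refine ⟨U.left, fun y => Scheme.Etale.mk (a y ≫ uh), fun y => MorphismProperty.Over.homMk (a y) rfl,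
    fun y => ?_, fun y => ?_⟩
  · obtain ⟨z, hz⟩ := hy y
    exact ⟨y, z, hz⟩
  · haveI := hc y
    exact ⟨Scheme.Etale.mk (c y), b y, (hab y).symm.trans (Category.assoc _ _ _).symm, hqc y, hgc y⟩

theorem isIso_baseChange0 {T : Scheme.{u}} (f : X ⟶ S) [Flat f] (hcov : GrothLib.LocAcyc.HasFactorizations f)
    (g : T ⟶ S) {Y : Scheme.{u}} (h : Y ⟶ X) (e : Y ⟶ T) (hsq : IsPullback e h g f) (F : EtCoh.Ab T) :
    IsIso (EtCoh.baseChange0 g f h e hsq.w F) := by
  haveI : IsIso ((sheafCompose X.smallEtaleTopology (forget AddCommGrpCat.{u + 1})).map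
      (EtCoh.baseChange0 g f h e hsq.w F)) := isIso_of_stalksSh _ fun x =>
    ⟨_, inferInstance, inferInstance, gpt x, gpt_default x,
      baseChange0_stalk_bijective g f h e hsq F (GrothLib.LocAcyc.keyData_of_hasFactorizations hcov g _)⟩
  exact isIso_of_reflects_iso (EtCoh.baseChange0 g f h e hsq.w F)
    (sheafCompose X.smallEtaleTopology (forget AddCommGrpCat.{u + 1}))

theorem isZero_of_isEmpty {Z : Scheme.{u}} [IsEmpty Z] (F : EtCoh.Ab Z) : IsZero F :=
  (IsZero.iff_id_eq_zero F).2 (GrothLib.ExtZero.zero_of_stalks _ fun Ω _ _ ξ =>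
    (IsEmpty.false (ξ.base (default : Spec (CommRingCat.of Ω)))).elim)

theorem isIso_proj_of_isLimit {C : Type*} [Category C] [HasZeroMorphisms C] {ι : Type*} {H : ι → C}
    (c : Fan H) (hc : IsLimit c) (k : ι) (hz : ∀ i, i ≠ k → IsZero (H i)) : IsIso (c.proj k) := by
  classical
  let s : H k ⟶ c.pt := Fan.IsLimit.lift hc fun i => if h : k = i then eqToHom (congrArg H h) else 0
  have hs : s ≫ c.proj k = 𝟙 _ := by
    refine (Fan.IsLimit.fac hc _ k).trans ?_
    rw [dif_pos rfl, eqToHom_refl]
  refine ⟨s, Fan.IsLimit.hom_ext hc _ _ fun i => ?_, hs⟩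
  by_cases h : i = k
  · subst h
    rw [Category.assoc, hs, Category.comp_id, Category.id_comp]
  · exact (hz i h).eq_of_tgt _ _

theorem preservesLimits_pull_etale {U : Scheme.{u}} (j : U ⟶ X) [Etale j] (ι : Type u) :
    PreservesLimitsOfShape (Discrete ι) (EtCoh.pull j) := by
  haveI := GrothLib.Constructible.jcont j
  haveI : PreservesLimitsOfShape (Discrete ι) (EtShriek.restrAlong j) := by
    haveI := (EtShriek.extZeroAdj j).rightAdjoint_preservesLimits
    infer_instance
  exact preservesLimitsOfShape_of_natIso (GrothLib.ExtZero.restrIsoPull j)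

/-- A fan which is locally the projection to the only nonzero factor is a product. -/
theorem isLimit_fan {Z : Scheme.{u}} {ι : Type u} (V : ι → Scheme.{u}) (j : ∀ i, V i ⟶ Z)
    [∀ i, Etale (j i)] (hcov : ∀ z, ∃ i v, (j i).base v = z) (H : ι → EtCoh.Ab Z) (P : Fan H)
    (hzero : ∀ i k, i ≠ k → IsZero ((EtCoh.pull (j k)).obj (H i)))
    (hiso : ∀ k, IsIso ((EtCoh.pull (j k)).map (P.proj k))) : Nonempty (IsLimit P) := by
  let m : P.pt ⟶ ∏ᶜ H := Pi.lift P.proj
  haveI : IsIso m := GrothLib.BCDVcomp.isIso_of_pull_covers (fun i => Scheme.Etale.mk (j i)) hcov m fun k => by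
    change IsIso ((EtCoh.pull (j k)).map m)
    haveI := preservesLimits_pull_etale (j k) ι
    haveI : IsIso ((EtCoh.pull (j k)).map (Pi.π H k)) :=
      isIso_proj_of_isLimit _ (isLimitFanMkObjOfIsLimit (EtCoh.pull (j k)) H (Pi.π H) (productIsProduct H)) k
        fun i hi => hzero i k hi
    haveI : IsIso ((EtCoh.pull (j k)).map m ≫ (EtCoh.pull (j k)).map (Pi.π H k)) := by
      rw [← Functor.map_comp, Pi.lift_π]
      exact hiso k
    exact IsIso.of_isIso_comp_right _ ((EtCoh.pull (j k)).map (Pi.π H k))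
  haveI : IsIso ((limit.isLimit (Discrete.functor H)).lift P) := by
    rw [show (limit.isLimit (Discrete.functor H)).lift P = m from limit.hom_ext fun i =>
      ((limit.isLimit (Discrete.functor H)).fac P i).trans (limit.lift_π (Fan.mk P.pt P.proj) i).symm]
    infer_instance
  exact ⟨IsLimit.ofPointIso (limit.isLimit (Discrete.functor H))⟩

theorem preservesLimitsOfShape_pull (f : X ⟶ S) [Flat f] [LocallyOfFinitePresentation f]
    [GeometricallyReduced f] (ι : Type u) : PreservesLimitsOfShape (Discrete ι) (EtCoh.pull f) := by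
  refine ⟨fun {K} => ?_⟩
  let T : Scheme.{u} := ∐ fun _ : ι => S
  let j : ι → (S ⟶ T) := fun i => Sigma.ι (fun _ : ι => S) i
  haveI : ∀ i, IsOpenImmersion (j i) := fun i => inferInstance
  let g : T ⟶ S := Sigma.desc fun _ => 𝟙 S
  have hjg : ∀ i, j i ≫ g = 𝟙 S := fun i => Sigma.ι_desc _ _
  let e := pullback.fst g f
  let h := pullback.snd g f
  have hsq : IsPullback e h g f := IsPullback.of_hasPullback g f
  let KT : ι → EtCoh.Ab T := fun i => (EtCoh.push (j i)).obj (K.obj ⟨i⟩)
  have hzeroT : ∀ i k, i ≠ k → IsZero ((EtCoh.pull (j k)).obj (KT i)) := fun i k hik => by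
    haveI := GrothLib.BCQVcomp.isIso_baseChange0_of_etale (j i) (j k) (pullback.snd (j i) (j k))
      (pullback.fst (j i) (j k)) (IsPullback.of_hasPullback _ _) (K.obj ⟨i⟩)
    haveI : IsEmpty ↑(pullback (j i) (j k)) := isEmpty_pullback_sigmaι_of_ne _ hik
    exact ((EtCoh.push (pullback.snd (j i) (j k))).map_isZero (isZero_of_isEmpty _)).of_iso
      (asIso (EtCoh.baseChange0 (j i) (j k) (pullback.snd (j i) (j k)) (pullback.fst (j i) (j k))
        (IsPullback.of_hasPullback _ _).w (K.obj ⟨i⟩)))
  let j' : ι → (X ⟶ pullback g f) := fun k =>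
    pullback.lift (f ≫ j k) (𝟙 X) (by rw [Category.assoc, hjg, Category.comp_id, Category.id_comp])
  have hpb : ∀ k, IsPullback (j' k) f e (j k) := fun k => by
    refine IsPullback.of_right ?_ (pullback.lift_fst _ _ _) hsq.flip
    rw [show j' k ≫ h = 𝟙 X from pullback.lift_snd _ _ _, hjg]
    exact IsPullback.of_horiz_isIso ⟨by simp⟩
  haveI : ∀ k, IsOpenImmersion (j' k) := fun k => MorphismProperty.of_isPullback (hpb k).flip inferInstance
  let eJ : ∀ k, EtCoh.pull e ⋙ EtCoh.pull (j' k) ≅ EtCoh.pull (j k) ⋙ EtCoh.pull f := fun k =>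
    (EtCore.pullComp (j' k) e).symm ≪≫ EtCore.pullCongr (hpb k).w ≪≫ EtCore.pullComp f (j k)
  haveI hPe : PreservesLimit (Discrete.functor KT) (EtCoh.pull e) := by
    refine preservesLimit_of_preserves_limit_cone (productIsProduct KT) ?_
    refine (isLimitMapConeFanMkEquiv (EtCoh.pull e) KT (Pi.π KT)).symm ?_
    refine (isLimit_fan (fun _ : ι => X) j' (fun y => ?_) _ _ (fun i k hik => ?_) fun k => ?_).some
    · obtain ⟨k, s, hs⟩ : ∃ k s, (j k).base s = e.base y := by
        obtain ⟨⟨k, s⟩, hks⟩ := (sigmaMk fun _ : ι => S).surjective (e.base y)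
        exact ⟨k, s, (sigmaMk_mk _ _ _).symm.trans hks⟩
      obtain ⟨x, hx, -⟩ := Scheme.exists_preimage_of_isPullback (hpb k) y s hs.symm
      exact ⟨k, x, hx⟩
    · exact ((EtCoh.pull f).map_isZero (hzeroT i k hik)).of_iso ((eJ k).app (KT i))
    · haveI := preservesLimits_pull_etale (j k) ι
      haveI : IsIso ((EtCoh.pull (j k)).map (Pi.π KT k)) :=
        isIso_proj_of_isLimit _ (isLimitFanMkObjOfIsLimit (EtCoh.pull (j k)) KT (Pi.π KT) (productIsProduct KT)) k
          fun i hi => hzeroT i k hi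
      exact (NatIso.isIso_map_iff (eJ k) (Pi.π KT k)).2
        (inferInstanceAs (IsIso ((EtCoh.pull f).map ((EtCoh.pull (j k)).map (Pi.π KT k)))))
  let bc : EtCoh.push g ⋙ EtCoh.pull f ⟶ EtCoh.pull e ⋙ EtCoh.push h :=
    { app := fun G => EtCoh.baseChange0 g f h e hsq.w G
      naturality := fun G G' φ => by
        apply ((EtCoh.pullPushAdj f).homEquiv _ _).injective
        rw [Functor.comp_map, Functor.comp_map, Adjunction.homEquiv_naturality_left,
          Adjunction.homEquiv_naturality_right]
        simp only [EtCoh.baseChange0, Functor.comp_obj, Equiv.apply_symm_apply]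
        rw [← Functor.map_comp_assoc]
        erw [(EtCoh.pullPushAdj e).unit.naturality φ]
        simp only [Functor.comp_map, Functor.map_comp, Category.assoc]
        congr 1
        erw [(EtCoh.pushComp g e).hom.naturality_assoc, (EtCoh.pushCongr hsq.w).hom.naturality_assoc,
          (EtCoh.pushComp f h).inv.naturality]
        rfl }
  haveI : ∀ G, IsIso (bc.app G) := fun G => isIso_baseChange0 f (hasFactorizations f) g h e hsq G
  haveI : IsIso bc := NatIso.isIso_of_isIso_app bc
  haveI : PreservesLimitsOfSize.{u, u} (EtCoh.push h) := (EtCoh.pullPushAdj h).rightAdjoint_preservesLimits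
  haveI : PreservesLimitsOfSize.{u, u} (EtCoh.push g) := (EtCoh.pullPushAdj g).rightAdjoint_preservesLimits
  haveI : PreservesLimit (Discrete.functor KT) (EtCoh.push g ⋙ EtCoh.pull f) :=
    preservesLimit_of_natIso _ (asIso bc).symm
  haveI : PreservesLimit (Discrete.functor KT ⋙ EtCoh.push g) (EtCoh.pull f) :=
    preservesLimit_of_preserves_limit_cone (isLimitOfPreserves (EtCoh.push g) (limit.isLimit _))
      (isLimitOfPreserves (EtCoh.push g ⋙ EtCoh.pull f) (limit.isLimit (Discrete.functor KT)))
  refine preservesLimit_of_iso_diagram _ (?_ : Discrete.functor KT ⋙ EtCoh.push g ≅ K)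
  exact Discrete.natIso fun i => (EtCoh.pushComp g (j i.as)).app _ ≪≫ (EtCoh.pushCongr (hjg i.as)).app _ ≪≫
    (GrothLib.EtDer.pushIdIso S).app _

end GrothLib.GRedProd18
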